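import Cfsg.Agent.H935.FiThree.Pt

/-!
# `Fi23`: the normalizer of `⟨w0⟩` (class 3B) is a maximal subgroup

The subgroup generated by `a, b, c, z j, f e` and `pp` has three orbits, of lengths 324, 11664 and 19683, on the 31671
transpositions. As 324 + 11664 and 324 + 19683 do not divide the order of `Fi23`, a subgroup containing it is transitive
on the transpositions (and then is the whole group) or preserves the set of the 324 transpositions fixed by `w0` (and
then normalizes `⟨w0⟩`).
-/

set_option autoImplicit false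
set_option maxRecDepth 100000
set_option linter.constructorNameAsVariable false

namespace Cfsg.Agent.H935.FiThree

open Subgroup Cfsg Cfsg.Agent.Lib.PermNet Cfsg.Agent.Lib.PermNetFix Cfsg.Agent.LThreeFi23
open Cfsg.Spor (Fi23)
open Cfsg.Spor.Fi23 (Gen)
open Cfsg.Agent.Fischer.Fi23Hom (rho gen)

/-- the points of the mask -/
def pts (m : ℕ) : Set ℕ := {p | m.testBit p = true}

theorem mem_pts {m p : ℕ} : p ∈ pts m ↔ m.testBit p = true := Iff.rfl

theorem lt_of_sub_full {m : ℕ} (h : ∀ p, m.testBit p = true → p < 31671) : m < 2 ^ 2 ^ 15 := by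
  apply Nat.lt_pow_two_of_testBit
  intro i hi
  by_contra hc
  have h1 := h i (by simpa using hc)
  have : 31671 < 2 ^ 15 := by norm_num
  omega

theorem ncard_pts {m n : ℕ} (h : ∀ p, m.testBit p = true → p < 31671) (hpc : Lib.PermNetOrbit.pc 15 m = n) :
    (pts m).ncard = n := by
  rw [← hpc, Lib.PermNetOrbit.pc_eq 15 m (lt_of_sub_full h), ← Set.ncard_coe_finset]
  congr 1
  ext p
  rw [mem_pts, Finset.mem_coe, Lib.PermNetOrbit.mem_bits]
  constructor
  · intro hp
    have := h p hp
    exact ⟨by omega, hp⟩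
  · exact fun hp => hp.2

theorem orb_facts : mF ||| m2 ||| m3 = full ∧ Lib.PermNetOrbit.pc 15 (mF ||| m2) = 11988 ∧
    Lib.PermNetOrbit.pc 15 (mF ||| m3) = 20007 ∧ mF &&& moved 15 (ntw w0) = 0 ∧
    Lib.PermNetOrbit.pc 15 (moved 15 (ntw w0)) = 31347 ∧ ∀ p ∈ nine, mF.testBit p = true := by
  have h := chk_orb
  unfold chkOrb at h
  rw [seqB_eq, seqB_eq, seqB_eq, seqB_eq] at h
  simp only [Bool.and_eq_true] at h
  obtain ⟨h1, h2, h3, h4, h5, h6⟩ := h
  refine ⟨Nat.eq_of_beq_eq_true h1, Nat.eq_of_beq_eq_true h2, Nat.eq_of_beq_eq_true h3,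
    Nat.eq_of_beq_eq_true h4, Nat.eq_of_beq_eq_true h5, ?_⟩
  exact allTb_spec _ _ h6

theorem cover {p : ℕ} (hp : p < 31671) : mF.testBit p = true ∨ m2.testBit p = true ∨ m3.testBit p = true := by
  have h1 : full.testBit p = true := (testBit_full p).2 hp
  rw [← orb_facts.1, Nat.testBit_or, Nat.testBit_or, Bool.or_eq_true, Bool.or_eq_true] at h1
  tauto

theorem lt_of_bit {p : ℕ} (h : mF.testBit p = true ∨ m2.testBit p = true ∨ m3.testBit p = true) : p < 31671 := by
  rw [← testBit_full, ← orb_facts.1, Nat.testBit_or, Nat.testBit_or, Bool.or_eq_true, Bool.or_eq_true]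
  tauto

theorem fix_of_bit {p : ℕ} (h : mF.testBit p = true) : rho W p = p := by
  have hp : p < 31671 := lt_of_bit (Or.inl h)
  have h1 := orb_facts.2.2.2.1
  have h2 : (moved 15 (ntw w0)).testBit p = false := by
    have h3 : (mF &&& moved 15 (ntw w0)).testBit p = false := by rw [h1, Nat.zero_testBit]
    rw [Nat.testBit_and, h, Bool.true_and] at h3
    exact h3
  have h3 := testBit_moved (ntw_ok w0) (p := p) (by omega)
  rw [h2, ← rho_elw] at h3
  by_contra hc
  exact absurd (h3.2 hc) (by simp)

theorem Fixes_W : Fixes W := by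
  have h := orb_facts.2.2.2.2.2
  constructor <;> exact fix_of_bit (h _ (by simp [nine]))

/-- the generating words -/
def gws : List (List Lt) := [[.a], [.b], [.c], u1, u2, pp]

/-- the orbit of 8003 under `H` -/
def Orb (H : Subgroup Fi23) : Set ℕ := {p | ∃ h ∈ H, rho h 8003 = p}

theorem Orb_act {H : Subgroup Fi23} {p : ℕ} (hp : p ∈ Orb H) {h : Fi23} (hh : h ∈ H) : rho h p ∈ Orb H := by
  obtain ⟨k, hk, rfl⟩ := hp
  exact ⟨h * k, H.mul_mem hh hk, by rw [map_mul]; rfl⟩

theorem Orb_lt {H : Subgroup Fi23} {p : ℕ} (hp : p ∈ Orb H) : p < 31671 := by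
  obtain ⟨k, -, rfl⟩ := hp
  exact act_lt k (by norm_num)

theorem Orb_ncard_dvd (H : Subgroup Fi23) : (Orb H).ncard ∣ 4089470473293004800 := by
  let _ : MulAction H ℕ := MulAction.compHom ℕ (rho.comp H.subtype)
  have h1 : Orb H = MulAction.orbit H (8003 : ℕ) := by
    ext p
    constructor
    · rintro ⟨h, hh, rfl⟩
      exact ⟨⟨h, hh⟩, rfl⟩
    · rintro ⟨h, rfl⟩
      exact ⟨h, h.2, rfl⟩
  rw [h1, ← MulAction.index_stabilizer, ← card_G]
  exact (Subgroup.index_dvd_card _).trans (Subgroup.card_subgroup_dvd_card H)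

theorem top_of_transitive {H : Subgroup Fi23} (hc : elw [.c] ∈ H) (h : ∀ p < 31671, p ∈ Orb H) : H = ⊤ := by
  have hel : ∀ x : Lt, el x ∈ H := by
    intro x
    obtain ⟨k, hk, he⟩ := h (pt x) (pt_lt x)
    have h1 : T (pt x) = k * T 8003 * k⁻¹ := by rw [← he, T_act k (by norm_num)]
    have h2 : T 8003 = el .c := T_pt .c
    rw [T_pt, h2] at h1
    rw [elw_cons, elw_nil, mul_one] at hc
    rw [h1]
    exact H.mul_mem (H.mul_mem hk hc) (H.inv_mem hk)
  rw [eq_top_iff, ← show Subgroup.closure (Set.range gen) = ⊤ from Fischer.Fi23Final.gens_top,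
    Subgroup.closure_le]
  rintro _ ⟨x, rfl⟩
  cases x
  · exact hel .a
  · exact hel .b
  · exact hel .c
  · exact hel .d
  · exact hel .e
  · exact hel .f
  · exact hel .g
  · exact hel .j
  · exact hel .h
  · exact hel .i

/-- **a subgroup containing the generating words is everything or preserves the 324 points** -/
theorem orbit_alt {H : Subgroup Fi23} (hH : ∀ w ∈ gws, elw w ∈ H) :
    H = ⊤ ∨ ∀ h ∈ H, ∀ p, mF.testBit p = true → mF.testBit (rho h p) = true := by
  have ha : elw [.a] ∈ H := hH _ (by simp [gws])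
  have hb : elw [.b] ∈ H := hH _ (by simp [gws])
  have hc : elw [.c] ∈ H := hH _ (by simp [gws])
  have hu1 : elw u1 ∈ H := hH _ (by simp [gws])
  have hu2 : elw u2 ∈ H := hH _ (by simp [gws])
  have hpp : elw pp ∈ H := hH _ (by simp [gws])
  have single : ∀ x : ℕ, ∀ p, (Nat.pow 2 x).testBit p = true → ∃ h ∈ H, rho h x = p := by
    intro x p hp
    change (2 ^ x).testBit p = true at hp
    rw [Nat.testBit_two_pow] at hp
    exact ⟨1, H.one_mem, by rw [map_one]; simpa using hp⟩
  have gF : ∀ p, mF.testBit p = true → p ∈ Orb H := by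
    intro p hp
    refine grow_spec (s := sF) (x := 8003) ?_ (single 8003) p hp
    intro w hw
    simp only [sF, List.mem_cons, List.not_mem_nil, or_false] at hw
    rcases hw with rfl | rfl | rfl | rfl | rfl | rfl | rfl | rfl | rfl | rfl | rfl | rfl | rfl | rfl | rfl |
      rfl | rfl <;> assumption
  have g2 : ∀ p, m2.testBit p = true → ∃ h ∈ H, rho h 0 = p := by
    intro p hp
    refine grow_spec (s := s2) (x := 0) ?_ (single 0) p hp
    intro w hw
    simp only [s2, List.mem_cons, List.not_mem_nil, or_false] at hw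
    rcases hw with rfl | rfl | rfl | rfl | rfl | rfl | rfl | rfl | rfl | rfl | rfl | rfl | rfl | rfl | rfl |
      rfl | rfl | rfl | rfl | rfl | rfl | rfl | rfl | rfl | rfl | rfl <;> assumption
  have g3 : ∀ p, m3.testBit p = true → ∃ h ∈ H, rho h 8000 = p := by
    intro p hp
    refine grow_spec (s := s3) (x := 8000) ?_ (single 8000) p hp
    intro w hw
    simp only [s3, List.mem_cons, List.not_mem_nil, or_false] at hw
    rcases hw with rfl | rfl | rfl | rfl | rfl | rfl | rfl | rfl | rfl | rfl | rfl | rfl | rfl | rfl | rfl |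
      rfl | rfl | rfl | rfl | rfl | rfl | rfl | rfl | rfl | rfl | rfl | rfl | rfl | rfl <;> assumption
  -- a point of the second or third mask in the orbit
  have back : ∀ {x p : ℕ}, p ∈ Orb H → (∃ h ∈ H, rho h x = p) → x ∈ Orb H := by
    rintro x p hp ⟨h, hh, rfl⟩
    have h1 := Orb_act hp (H.inv_mem hh)
    rwa [← Equiv.Perm.mul_apply, ← map_mul, inv_mul_cancel, map_one] at h1
  have fwd : ∀ {x p : ℕ}, x ∈ Orb H → (∃ h ∈ H, rho h x = p) → p ∈ Orb H := by
    rintro x p hx ⟨h, hh, rfl⟩
    exact Orb_act hx hh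
  by_cases b2 : 0 ∈ Orb H
  · by_cases b3 : 8000 ∈ Orb H
    · left
      apply top_of_transitive hc
      intro p hp
      rcases cover hp with h | h | h
      · exact gF p h
      · exact fwd b2 (g2 p h)
      · exact fwd b3 (g3 p h)
    · exfalso
      have h1 : Orb H = pts (mF ||| m2) := by
        ext p
        rw [mem_pts, Nat.testBit_or, Bool.or_eq_true]
        constructor
        · intro hp
          rcases cover (Orb_lt hp) with h | h | h
          · exact Or.inl h
          · exact Or.inr h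
          · exact absurd (back hp (g3 p h)) b3
        · rintro (h | h)
          · exact gF p h
          · exact fwd b2 (g2 p h)
      have h2 := Orb_ncard_dvd H
      rw [h1, ncard_pts (n := 11988) ?_ orb_facts.2.1] at h2
      · revert h2
        norm_num
      · intro p hp
        rw [Nat.testBit_or, Bool.or_eq_true] at hp
        exact lt_of_bit (by tauto)
  · by_cases b3 : 8000 ∈ Orb H
    · exfalso
      have h1 : Orb H = pts (mF ||| m3) := by
        ext p
        rw [mem_pts, Nat.testBit_or, Bool.or_eq_true]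
        constructor
        · intro hp
          rcases cover (Orb_lt hp) with h | h | h
          · exact Or.inl h
          · exact absurd (back hp (g2 p h)) b2
          · exact Or.inr h
        · rintro (h | h)
          · exact gF p h
          · exact fwd b3 (g3 p h)
      have h2 := Orb_ncard_dvd H
      rw [h1, ncard_pts (n := 20007) ?_ orb_facts.2.2.1] at h2
      · revert h2
        norm_num
      · intro p hp
        rw [Nat.testBit_or, Bool.or_eq_true] at hp
        exact lt_of_bit (by tauto)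
    · right
      intro h hh p hp
      have h1 := Orb_act (gF p hp) hh
      rcases cover (Orb_lt h1) with h2 | h2 | h2
      · exact h2
      · exact absurd (back h1 (g2 _ h2)) b2
      · exact absurd (back h1 (g3 _ h2)) b3

/-! ### The normalizer -/

theorem W_ne_one : W ≠ 1 := by
  intro h
  have h1 := W_pts.1
  rw [h, map_one] at h1
  exact absurd h1 (by norm_num)

theorem zpow_cases (k : ℤ) : W ^ k = 1 ∨ W ^ k = W ∨ W ^ k = W⁻¹ := by
  have h1 : W ^ k = W ^ (k % 3) := by
    conv_lhs => rw [← Int.emod_add_mul_ediv k 3]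
    rw [zpow_add, zpow_mul]
    have : W ^ (3 : ℤ) = 1 := by exact_mod_cast W_cube
    rw [this, one_zpow, mul_one]
  have h2 : k % 3 = 0 ∨ k % 3 = 1 ∨ k % 3 = 2 := by omega
  rcases h2 with h | h | h
  · left
    rw [h1, h, zpow_zero]
  · right; left
    rw [h1, h, zpow_one]
  · right; right
    rw [h1, h, W_inv]
    exact pow_two W

/-- the normalizer of `⟨w0⟩` -/
def NW : Subgroup Fi23 := normalizer ((zpowers W : Subgroup Fi23) : Set Fi23)

theorem conj_mem {g : Fi23} (h : g * W * g⁻¹ ∈ zpowers W) {x : Fi23} (hx : x ∈ zpowers W) :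
    g * x * g⁻¹ ∈ zpowers W := by
  obtain ⟨k, rfl⟩ := mem_zpowers_iff.1 hx
  rw [← conj_zpow]
  exact (zpowers W).zpow_mem h k

theorem mem_NW_iff {g : Fi23} : g ∈ NW ↔ g * W * g⁻¹ = W ∨ g * W * g⁻¹ = W⁻¹ := by
  unfold NW
  rw [mem_normalizer_iff]
  constructor
  · intro h
    have h1 := (h W).1 (mem_zpowers W)
    obtain ⟨k, hk⟩ := mem_zpowers_iff.1 h1
    rcases zpow_cases k with h2 | h2 | h2
    · exfalso
      rw [hk] at h2
      exact W_ne_one (conj_eq_one_iff.1 h2)
    · left; rw [← hk, h2]
    · right; rw [← hk, h2]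
  · intro h x
    have h1 : g * W * g⁻¹ ∈ zpowers W := by
      rcases h with h | h
      · rw [h]; exact mem_zpowers W
      · rw [h]; exact inv_mem (mem_zpowers W)
    have h2 : g⁻¹ * W * g⁻¹⁻¹ ∈ zpowers W := by
      have h3 : g⁻¹ * W * g⁻¹⁻¹ = W ∨ g⁻¹ * W * g⁻¹⁻¹ = W⁻¹ := by
        rcases h with h | h
        · left
          rw [inv_inv]
          calc g⁻¹ * W * g = g⁻¹ * (g * W * g⁻¹) * g := by rw [h]
            _ = W := by group
        · right
          rw [inv_inv]
          calc g⁻¹ * W * g = g⁻¹ * (W⁻¹)⁻¹ * g := by rw [inv_inv]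
            _ = g⁻¹ * (g * W * g⁻¹)⁻¹ * g := by rw [h]
            _ = W⁻¹ := by group
      rcases h3 with h | h
      · rw [h]; exact mem_zpowers W
      · rw [h]; exact inv_mem (mem_zpowers W)
    constructor
    · exact fun hx => conj_mem h1 hx
    · intro hx
      have h3 := conj_mem h2 hx
      have h4 : g⁻¹ * (g * x * g⁻¹) * g⁻¹⁻¹ = x := by group
      rwa [h4] at h3

theorem mem_NW_of_comm {g : Fi23} (h : g * W = W * g) : g ∈ NW := by
  rw [mem_NW_iff]
  left
  rw [h, mul_inv_cancel_right]

theorem elw_mem_NW {l : List Lt} (h : elw (l ++ w0) = elw (w0 ++ l)) : elw l ∈ NW := by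
  apply mem_NW_of_comm
  rw [elw_append, elw_append] at h
  exact h

theorem gws_mem : ∀ w ∈ gws, elw w ∈ NW := by
  intro w hw
  simp only [gws, List.mem_cons, List.not_mem_nil, or_false] at hw
  rcases hw with rfl | rfl | rfl | rfl | rfl | rfl
  · exact elw_mem_NW a_w0
  · exact elw_mem_NW b_w0
  · exact elw_mem_NW c_w0
  · exact elw_mem_NW u1_w0
  · exact elw_mem_NW u2_w0
  · exact elw_mem_NW pp_w0

theorem NW_ne_top : NW ≠ ⊤ := by
  intro h
  have h1 : (zpowers W).Normal := by
    rw [← normalizer_eq_top_iff]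
    exact h
  have hs := nsimple
  have hc : Nat.card (zpowers W) ≤ 3 := by
    rw [Nat.card_zpowers]
    exact Nat.le_of_dvd (by norm_num) (orderOf_dvd_of_pow_eq_one W_cube)
  rcases h1.eq_bot_or_eq_top with h2 | h2
  · rw [zpowers_eq_bot] at h2
    exact W_ne_one h2
  · rw [h2, card_top, card_G] at hc
    norm_num at hc

/-- **the normalizer of `⟨w0⟩` is maximal** -/
theorem NW_isCoatom : IsCoatom NW := by
  refine ⟨NW_ne_top, ?_⟩
  intro K hK
  rcases orbit_alt (H := K) (fun w hw => hK.le (gws_mem w hw)) with h | h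
  · exact h
  · exfalso
    apply hK.not_ge
    intro k hk
    rw [mem_NW_iff]
    have h3 : (k * W * k⁻¹) ^ 3 = 1 := by
      rw [conj_pow, W_cube, mul_one, mul_inv_cancel]
    have key : ∀ p, mF.testBit p = true → rho (k * W * k⁻¹) p = p := by
      intro p hp
      have h4 := fix_of_bit (h k⁻¹ (K.inv_mem hk) p hp)
      rw [map_mul, map_mul, Equiv.Perm.mul_apply, Equiv.Perm.mul_apply, h4, ← Equiv.Perm.mul_apply, ← map_mul,
        mul_inv_cancel, map_one]
      rfl
    have hF : Fixes (k * W * k⁻¹) := by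
      have h5 := orb_facts.2.2.2.2.2
      constructor <;> exact key _ (h5 _ (by simp [nine]))
    rcases cases_of_fixes Fixes_W h3 hF with h6 | h6 | h6
    · exact absurd (conj_eq_one_iff.1 h6) W_ne_one
    · exact Or.inl h6
    · exact Or.inr h6

end Cfsg.Agent.H935.FiThree
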