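import Cfsg.Agent.LThreeFi23.Base

/-!
# `Fi23`: an element `w0` of class 3B and relations in its normalizer (kernel checks)

Words in the 10 generators and the transposition `z0`; each relation is checked by the kernel on the 31671
transpositions (long relations one bit plane at a time).
-/

set_option autoImplicit false
set_option maxRecDepth 100000
set_option linter.constructorNameAsVariable false
set_option Elab.async false

namespace Cfsg.Agent.H935.FiThree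

open Cfsg Cfsg.Agent.Lib.PermNet Cfsg.Agent.LThreeFi23

/-- the element `(z j)(f e)(h i)` of order 3 (class 3B) -/
def w0 : List Lt :=
    [.z, .j, .f, .e, .h, .i]

/-- inverts `w0` -/
def t0 : List Lt :=
    [.z, .f, .h]

/-- the element `z j` of order 3 -/
def u1 : List Lt :=
    [.z, .j]

/-- an element of order 4 commuting with `w0` -/
def pp : List Lt :=
    [.g, .f, .e, .d, .h, .i, .d, .e, .b, .c, .d, .h, .f, .e, .d, .c, .b, .a, .b, .c, .d, .e, .f, .h,
    .d, .c, .b, .e, .d, .i, .h, .d, .e, .f, .g, .j, .g, .f, .e, .d, .h, .i, .f, .e, .b, .c, .d, .h,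
    .g, .f, .e, .d, .c, .b, .a, .b, .c, .d, .e, .f, .g, .h, .d, .c, .b, .e, .f, .i, .h, .d, .e, .f,
    .g, .j, .z, .j]

/-- the product of the three conjugates of `d` under `w0` -/
def td : List Lt :=
    [.d, .z, .j, .f, .e, .h, .i, .d, .i, .h, .e, .f, .j, .z, .i, .h, .e, .f, .j, .z, .d, .z, .j, .f,
    .e, .h, .i]

/-- the product of the three conjugates of `g` under `w0` -/
def tg : List Lt :=
    [.g, .z, .j, .f, .e, .h, .i, .g, .i, .h, .e, .f, .j, .z, .i, .h, .e, .f, .j, .z, .g, .z, .j, .f,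
    .e, .h, .i]

/-- the product of the three conjugates of `h d h` under `w0` -/
def th : List Lt :=
    [.h, .d, .h, .z, .j, .f, .e, .h, .i, .h, .d, .h, .i, .h, .e, .f, .j, .z, .i, .h, .e, .f, .j, .z,
    .h, .d, .h, .z, .j, .f, .e, .h, .i]

/-- a transposition commuting with `w0` and `td` -/
def fs : List Lt :=
    [.e, .f, .g, .j, .f, .d, .e, .c, .d, .h, .i, .f, .d, .e, .c, .d, .h, .g, .f, .e, .d, .c, .b, .c,
    .d, .e, .f, .g, .h, .d, .c, .e, .d, .f, .i, .h, .d, .c, .e, .d, .f, .j, .g, .f, .e]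

/-- an element of order 3, the commutator of `a b` and `a fs` -/
def ww : List Lt :=
    [.a, .e, .f, .g, .j, .f, .d, .e, .c, .d, .h, .i, .f, .d, .e, .c, .d, .h, .g, .f, .e, .d, .c, .b,
    .c, .d, .e, .f, .g, .h, .d, .c, .e, .d, .f, .i, .h, .d, .c, .b, .c, .d, .h, .i, .f, .d, .e, .c,
    .d, .h, .g, .f, .e, .d, .c, .a, .b, .c, .d, .e, .f, .g, .h, .d, .c, .e, .d, .f, .i, .h, .d, .c,
    .b, .e, .d, .f, .j, .g, .f, .e]

/-- an element of order 4 commuting with `w0` -/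
def uu4 : List Lt :=
    [.b, .a, .c, .d, .h, .i, .e, .d, .h, .f, .e, .d, .c, .d, .e, .f, .h, .d, .e, .i, .h, .e, .b, .c,
    .d, .h, .i, .h, .c, .d, .e, .b, .c, .d, .h, .f, .e, .d, .c, .b, .a, .b, .c, .d, .e, .f, .h, .d,
    .c, .b, .e, .d, .c, .h, .i, .h, .d, .c, .b, .e, .d, .c]

/-- the conjugate of `uu4` under `ww` -/
def vv4 : List Lt :=
    [.c, .d, .h, .i, .e, .d, .h, .f, .e, .d, .c, .d, .e, .f, .h, .d, .e, .i, .h, .e, .b, .c, .d, .h,
    .i, .h, .c, .d, .e, .b, .c, .d, .h, .f, .e, .d, .c, .b, .a, .b, .c, .d, .e, .f, .h, .d, .c, .b,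
    .e, .d, .c, .h, .i, .h, .d, .c, .b, .e, .d, .c, .b, .a]

/-- the reversed word -/
def rv (l : List Lt) : List Lt := l.reverse

def rr : List Lt := [.a, .b]

def ss : List Lt := .a :: fs

/-- `u1 p u1⁻¹` -/
def qq : List Lt := u1 ++ pp ++ rv u1

/-- equality of two words, for the kernel -/
noncomputable def rel (l l' : List Lt) : Bool := checkEq 15 (ntw l) (ntw l')

theorem rel_eq {l l' : List Lt} (h : rel l l' = true) : elw l = elw l' := elw_eq_of_checkEq h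

/-- one bit plane of the equality of two words -/
noncomputable def pln (l l' : List Lt) (b : ℕ) : Bool := checkPlane 15 (ntw l) (ntw l') b

theorem eq_of_pln {l l' : List Lt} (h0 : pln l l' 0 = true) (h1 : pln l l' 1 = true) (h2 : pln l l' 2 = true)
    (h3 : pln l l' 3 = true) (h4 : pln l l' 4 = true) (h5 : pln l l' 5 = true) (h6 : pln l l' 6 = true)
    (h7 : pln l l' 7 = true) (h8 : pln l l' 8 = true) (h9 : pln l l' 9 = true) (h10 : pln l l' 10 = true)
    (h11 : pln l l' 11 = true) (h12 : pln l l' 12 = true) (h13 : pln l l' 13 = true) (h14 : pln l l' 14 = true) :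
    elw l = elw l' := by
  apply rho_inj
  rw [rho_elw, rho_elw]
  apply wperm_eq_of_planes (k := 15) (ntw_ok l) (ntw_ok l')
  intro b hb
  interval_cases b <;> assumption

theorem w0_cube : elw (w0 ++ w0 ++ w0) = elw ([]) := rel_eq (by decide +kernel)

theorem t0_w0 : elw (t0 ++ w0) = elw (rv w0 ++ t0) := rel_eq (by decide +kernel)

theorem t0_u1 : elw (t0 ++ u1) = elw (rv u1 ++ t0) := rel_eq (by decide +kernel)

theorem u1_w0 : elw (u1 ++ w0) = elw (w0 ++ u1) := rel_eq (by decide +kernel)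

theorem u1_cube : elw (u1 ++ u1 ++ u1) = elw ([]) := rel_eq (by decide +kernel)

theorem pp_w0_0 : pln (pp ++ w0) (w0 ++ pp) 0 = true := by decide +kernel
theorem pp_w0_1 : pln (pp ++ w0) (w0 ++ pp) 1 = true := by decide +kernel
theorem pp_w0_2 : pln (pp ++ w0) (w0 ++ pp) 2 = true := by decide +kernel
theorem pp_w0_3 : pln (pp ++ w0) (w0 ++ pp) 3 = true := by decide +kernel
theorem pp_w0_4 : pln (pp ++ w0) (w0 ++ pp) 4 = true := by decide +kernel
theorem pp_w0_5 : pln (pp ++ w0) (w0 ++ pp) 5 = true := by decide +kernel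
theorem pp_w0_6 : pln (pp ++ w0) (w0 ++ pp) 6 = true := by decide +kernel
theorem pp_w0_7 : pln (pp ++ w0) (w0 ++ pp) 7 = true := by decide +kernel
theorem pp_w0_8 : pln (pp ++ w0) (w0 ++ pp) 8 = true := by decide +kernel
theorem pp_w0_9 : pln (pp ++ w0) (w0 ++ pp) 9 = true := by decide +kernel
theorem pp_w0_10 : pln (pp ++ w0) (w0 ++ pp) 10 = true := by decide +kernel
theorem pp_w0_11 : pln (pp ++ w0) (w0 ++ pp) 11 = true := by decide +kernel
theorem pp_w0_12 : pln (pp ++ w0) (w0 ++ pp) 12 = true := by decide +kernel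
theorem pp_w0_13 : pln (pp ++ w0) (w0 ++ pp) 13 = true := by decide +kernel
theorem pp_w0_14 : pln (pp ++ w0) (w0 ++ pp) 14 = true := by decide +kernel
theorem pp_w0 : elw (pp ++ w0) = elw (w0 ++ pp) :=
  eq_of_pln pp_w0_0 pp_w0_1 pp_w0_2 pp_w0_3 pp_w0_4 pp_w0_5 pp_w0_6 pp_w0_7 pp_w0_8 pp_w0_9 pp_w0_10 pp_w0_11
    pp_w0_12 pp_w0_13 pp_w0_14

theorem u1_qq_0 : pln (u1 ++ qq ++ rv u1) (pp ++ qq) 0 = true := by decide +kernel
theorem u1_qq_1 : pln (u1 ++ qq ++ rv u1) (pp ++ qq) 1 = true := by decide +kernel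
theorem u1_qq_2 : pln (u1 ++ qq ++ rv u1) (pp ++ qq) 2 = true := by decide +kernel
theorem u1_qq_3 : pln (u1 ++ qq ++ rv u1) (pp ++ qq) 3 = true := by decide +kernel
theorem u1_qq_4 : pln (u1 ++ qq ++ rv u1) (pp ++ qq) 4 = true := by decide +kernel
theorem u1_qq_5 : pln (u1 ++ qq ++ rv u1) (pp ++ qq) 5 = true := by decide +kernel
theorem u1_qq_6 : pln (u1 ++ qq ++ rv u1) (pp ++ qq) 6 = true := by decide +kernel
theorem u1_qq_7 : pln (u1 ++ qq ++ rv u1) (pp ++ qq) 7 = true := by decide +kernel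
theorem u1_qq_8 : pln (u1 ++ qq ++ rv u1) (pp ++ qq) 8 = true := by decide +kernel
theorem u1_qq_9 : pln (u1 ++ qq ++ rv u1) (pp ++ qq) 9 = true := by decide +kernel
theorem u1_qq_10 : pln (u1 ++ qq ++ rv u1) (pp ++ qq) 10 = true := by decide +kernel
theorem u1_qq_11 : pln (u1 ++ qq ++ rv u1) (pp ++ qq) 11 = true := by decide +kernel
theorem u1_qq_12 : pln (u1 ++ qq ++ rv u1) (pp ++ qq) 12 = true := by decide +kernel
theorem u1_qq_13 : pln (u1 ++ qq ++ rv u1) (pp ++ qq) 13 = true := by decide +kernel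
theorem u1_qq_14 : pln (u1 ++ qq ++ rv u1) (pp ++ qq) 14 = true := by decide +kernel
theorem u1_qq : elw (u1 ++ qq ++ rv u1) = elw (pp ++ qq) :=
  eq_of_pln u1_qq_0 u1_qq_1 u1_qq_2 u1_qq_3 u1_qq_4 u1_qq_5 u1_qq_6 u1_qq_7 u1_qq_8 u1_qq_9 u1_qq_10 u1_qq_11
    u1_qq_12 u1_qq_13 u1_qq_14

theorem pp_qq_0 : pln (pp ++ qq) ([.a] ++ td ++ qq ++ pp) 0 = true := by decide +kernel
theorem pp_qq_1 : pln (pp ++ qq) ([.a] ++ td ++ qq ++ pp) 1 = true := by decide +kernel
theorem pp_qq_2 : pln (pp ++ qq) ([.a] ++ td ++ qq ++ pp) 2 = true := by decide +kernel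
theorem pp_qq_3 : pln (pp ++ qq) ([.a] ++ td ++ qq ++ pp) 3 = true := by decide +kernel
theorem pp_qq_4 : pln (pp ++ qq) ([.a] ++ td ++ qq ++ pp) 4 = true := by decide +kernel
theorem pp_qq_5 : pln (pp ++ qq) ([.a] ++ td ++ qq ++ pp) 5 = true := by decide +kernel
theorem pp_qq_6 : pln (pp ++ qq) ([.a] ++ td ++ qq ++ pp) 6 = true := by decide +kernel
theorem pp_qq_7 : pln (pp ++ qq) ([.a] ++ td ++ qq ++ pp) 7 = true := by decide +kernel
theorem pp_qq_8 : pln (pp ++ qq) ([.a] ++ td ++ qq ++ pp) 8 = true := by decide +kernel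
theorem pp_qq_9 : pln (pp ++ qq) ([.a] ++ td ++ qq ++ pp) 9 = true := by decide +kernel
theorem pp_qq_10 : pln (pp ++ qq) ([.a] ++ td ++ qq ++ pp) 10 = true := by decide +kernel
theorem pp_qq_11 : pln (pp ++ qq) ([.a] ++ td ++ qq ++ pp) 11 = true := by decide +kernel
theorem pp_qq_12 : pln (pp ++ qq) ([.a] ++ td ++ qq ++ pp) 12 = true := by decide +kernel
theorem pp_qq_13 : pln (pp ++ qq) ([.a] ++ td ++ qq ++ pp) 13 = true := by decide +kernel
theorem pp_qq_14 : pln (pp ++ qq) ([.a] ++ td ++ qq ++ pp) 14 = true := by decide +kernel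
theorem pp_qq : elw (pp ++ qq) = elw ([.a] ++ td ++ qq ++ pp) :=
  eq_of_pln pp_qq_0 pp_qq_1 pp_qq_2 pp_qq_3 pp_qq_4 pp_qq_5 pp_qq_6 pp_qq_7 pp_qq_8 pp_qq_9 pp_qq_10 pp_qq_11
    pp_qq_12 pp_qq_13 pp_qq_14

theorem td_sq : elw (td ++ td) = elw ([]) := rel_eq (by decide +kernel)

theorem tg_sq : elw (tg ++ tg) = elw ([]) := rel_eq (by decide +kernel)

theorem th_sq : elw (th ++ th) = elw ([]) := rel_eq (by decide +kernel)

theorem atd_rr : elw ([.a] ++ td ++ rr) = elw (rv rr ++ [.a] ++ td) := rel_eq (by decide +kernel)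

theorem atd_ss : elw ([.a] ++ td ++ ss) = elw (rv ss ++ [.a] ++ td) := rel_eq (by decide +kernel)

theorem rr_cube : elw (rr ++ rr ++ rr) = elw ([]) := rel_eq (by decide +kernel)

theorem ss_cube : elw (ss ++ ss ++ ss) = elw ([]) := rel_eq (by decide +kernel)

theorem rr_ss_0 : pln (rr ++ ss) (ww ++ ss ++ rr) 0 = true := by decide +kernel
theorem rr_ss_1 : pln (rr ++ ss) (ww ++ ss ++ rr) 1 = true := by decide +kernel
theorem rr_ss_2 : pln (rr ++ ss) (ww ++ ss ++ rr) 2 = true := by decide +kernel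
theorem rr_ss_3 : pln (rr ++ ss) (ww ++ ss ++ rr) 3 = true := by decide +kernel
theorem rr_ss_4 : pln (rr ++ ss) (ww ++ ss ++ rr) 4 = true := by decide +kernel
theorem rr_ss_5 : pln (rr ++ ss) (ww ++ ss ++ rr) 5 = true := by decide +kernel
theorem rr_ss_6 : pln (rr ++ ss) (ww ++ ss ++ rr) 6 = true := by decide +kernel
theorem rr_ss_7 : pln (rr ++ ss) (ww ++ ss ++ rr) 7 = true := by decide +kernel
theorem rr_ss_8 : pln (rr ++ ss) (ww ++ ss ++ rr) 8 = true := by decide +kernel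
theorem rr_ss_9 : pln (rr ++ ss) (ww ++ ss ++ rr) 9 = true := by decide +kernel
theorem rr_ss_10 : pln (rr ++ ss) (ww ++ ss ++ rr) 10 = true := by decide +kernel
theorem rr_ss_11 : pln (rr ++ ss) (ww ++ ss ++ rr) 11 = true := by decide +kernel
theorem rr_ss_12 : pln (rr ++ ss) (ww ++ ss ++ rr) 12 = true := by decide +kernel
theorem rr_ss_13 : pln (rr ++ ss) (ww ++ ss ++ rr) 13 = true := by decide +kernel
theorem rr_ss_14 : pln (rr ++ ss) (ww ++ ss ++ rr) 14 = true := by decide +kernel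
theorem rr_ss : elw (rr ++ ss) = elw (ww ++ ss ++ rr) :=
  eq_of_pln rr_ss_0 rr_ss_1 rr_ss_2 rr_ss_3 rr_ss_4 rr_ss_5 rr_ss_6 rr_ss_7 rr_ss_8 rr_ss_9 rr_ss_10 rr_ss_11
    rr_ss_12 rr_ss_13 rr_ss_14

theorem ww_uu_0 : pln (ww ++ uu4) (vv4 ++ ww) 0 = true := by decide +kernel
theorem ww_uu_1 : pln (ww ++ uu4) (vv4 ++ ww) 1 = true := by decide +kernel
theorem ww_uu_2 : pln (ww ++ uu4) (vv4 ++ ww) 2 = true := by decide +kernel
theorem ww_uu_3 : pln (ww ++ uu4) (vv4 ++ ww) 3 = true := by decide +kernel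
theorem ww_uu_4 : pln (ww ++ uu4) (vv4 ++ ww) 4 = true := by decide +kernel
theorem ww_uu_5 : pln (ww ++ uu4) (vv4 ++ ww) 5 = true := by decide +kernel
theorem ww_uu_6 : pln (ww ++ uu4) (vv4 ++ ww) 6 = true := by decide +kernel
theorem ww_uu_7 : pln (ww ++ uu4) (vv4 ++ ww) 7 = true := by decide +kernel
theorem ww_uu_8 : pln (ww ++ uu4) (vv4 ++ ww) 8 = true := by decide +kernel
theorem ww_uu_9 : pln (ww ++ uu4) (vv4 ++ ww) 9 = true := by decide +kernel
theorem ww_uu_10 : pln (ww ++ uu4) (vv4 ++ ww) 10 = true := by decide +kernel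
theorem ww_uu_11 : pln (ww ++ uu4) (vv4 ++ ww) 11 = true := by decide +kernel
theorem ww_uu_12 : pln (ww ++ uu4) (vv4 ++ ww) 12 = true := by decide +kernel
theorem ww_uu_13 : pln (ww ++ uu4) (vv4 ++ ww) 13 = true := by decide +kernel
theorem ww_uu_14 : pln (ww ++ uu4) (vv4 ++ ww) 14 = true := by decide +kernel
theorem ww_uu : elw (ww ++ uu4) = elw (vv4 ++ ww) :=
  eq_of_pln ww_uu_0 ww_uu_1 ww_uu_2 ww_uu_3 ww_uu_4 ww_uu_5 ww_uu_6 ww_uu_7 ww_uu_8 ww_uu_9 ww_uu_10 ww_uu_11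
    ww_uu_12 ww_uu_13 ww_uu_14

theorem ww_vv_0 : pln (ww ++ vv4) (vv4 ++ uu4 ++ ww) 0 = true := by decide +kernel
theorem ww_vv_1 : pln (ww ++ vv4) (vv4 ++ uu4 ++ ww) 1 = true := by decide +kernel
theorem ww_vv_2 : pln (ww ++ vv4) (vv4 ++ uu4 ++ ww) 2 = true := by decide +kernel
theorem ww_vv_3 : pln (ww ++ vv4) (vv4 ++ uu4 ++ ww) 3 = true := by decide +kernel
theorem ww_vv_4 : pln (ww ++ vv4) (vv4 ++ uu4 ++ ww) 4 = true := by decide +kernel
theorem ww_vv_5 : pln (ww ++ vv4) (vv4 ++ uu4 ++ ww) 5 = true := by decide +kernel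
theorem ww_vv_6 : pln (ww ++ vv4) (vv4 ++ uu4 ++ ww) 6 = true := by decide +kernel
theorem ww_vv_7 : pln (ww ++ vv4) (vv4 ++ uu4 ++ ww) 7 = true := by decide +kernel
theorem ww_vv_8 : pln (ww ++ vv4) (vv4 ++ uu4 ++ ww) 8 = true := by decide +kernel
theorem ww_vv_9 : pln (ww ++ vv4) (vv4 ++ uu4 ++ ww) 9 = true := by decide +kernel
theorem ww_vv_10 : pln (ww ++ vv4) (vv4 ++ uu4 ++ ww) 10 = true := by decide +kernel
theorem ww_vv_11 : pln (ww ++ vv4) (vv4 ++ uu4 ++ ww) 11 = true := by decide +kernel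
theorem ww_vv_12 : pln (ww ++ vv4) (vv4 ++ uu4 ++ ww) 12 = true := by decide +kernel
theorem ww_vv_13 : pln (ww ++ vv4) (vv4 ++ uu4 ++ ww) 13 = true := by decide +kernel
theorem ww_vv_14 : pln (ww ++ vv4) (vv4 ++ uu4 ++ ww) 14 = true := by decide +kernel
theorem ww_vv : elw (ww ++ vv4) = elw (vv4 ++ uu4 ++ ww) :=
  eq_of_pln ww_vv_0 ww_vv_1 ww_vv_2 ww_vv_3 ww_vv_4 ww_vv_5 ww_vv_6 ww_vv_7 ww_vv_8 ww_vv_9 ww_vv_10 ww_vv_11
    ww_vv_12 ww_vv_13 ww_vv_14

theorem uu_vv_0 : pln (uu4 ++ vv4) (td ++ vv4 ++ uu4) 0 = true := by decide +kernel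
theorem uu_vv_1 : pln (uu4 ++ vv4) (td ++ vv4 ++ uu4) 1 = true := by decide +kernel
theorem uu_vv_2 : pln (uu4 ++ vv4) (td ++ vv4 ++ uu4) 2 = true := by decide +kernel
theorem uu_vv_3 : pln (uu4 ++ vv4) (td ++ vv4 ++ uu4) 3 = true := by decide +kernel
theorem uu_vv_4 : pln (uu4 ++ vv4) (td ++ vv4 ++ uu4) 4 = true := by decide +kernel
theorem uu_vv_5 : pln (uu4 ++ vv4) (td ++ vv4 ++ uu4) 5 = true := by decide +kernel
theorem uu_vv_6 : pln (uu4 ++ vv4) (td ++ vv4 ++ uu4) 6 = true := by decide +kernel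
theorem uu_vv_7 : pln (uu4 ++ vv4) (td ++ vv4 ++ uu4) 7 = true := by decide +kernel
theorem uu_vv_8 : pln (uu4 ++ vv4) (td ++ vv4 ++ uu4) 8 = true := by decide +kernel
theorem uu_vv_9 : pln (uu4 ++ vv4) (td ++ vv4 ++ uu4) 9 = true := by decide +kernel
theorem uu_vv_10 : pln (uu4 ++ vv4) (td ++ vv4 ++ uu4) 10 = true := by decide +kernel
theorem uu_vv_11 : pln (uu4 ++ vv4) (td ++ vv4 ++ uu4) 11 = true := by decide +kernel
theorem uu_vv_12 : pln (uu4 ++ vv4) (td ++ vv4 ++ uu4) 12 = true := by decide +kernel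
theorem uu_vv_13 : pln (uu4 ++ vv4) (td ++ vv4 ++ uu4) 13 = true := by decide +kernel
theorem uu_vv_14 : pln (uu4 ++ vv4) (td ++ vv4 ++ uu4) 14 = true := by decide +kernel
theorem uu_vv : elw (uu4 ++ vv4) = elw (td ++ vv4 ++ uu4) :=
  eq_of_pln uu_vv_0 uu_vv_1 uu_vv_2 uu_vv_3 uu_vv_4 uu_vv_5 uu_vv_6 uu_vv_7 uu_vv_8 uu_vv_9 uu_vv_10 uu_vv_11
    uu_vv_12 uu_vv_13 uu_vv_14

theorem td_w0 : elw (td ++ w0) = elw (w0 ++ td) := rel_eq (by decide +kernel)

theorem tg_w0 : elw (tg ++ w0) = elw (w0 ++ tg) := rel_eq (by decide +kernel)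

theorem th_w0 : elw (th ++ w0) = elw (w0 ++ th) := rel_eq (by decide +kernel)

theorem fs_w0 : elw (fs ++ w0) = elw (w0 ++ fs) := rel_eq (by decide +kernel)

theorem uu_w0 : elw (uu4 ++ w0) = elw (w0 ++ uu4) := rel_eq (by decide +kernel)

theorem a_w0 : elw ([.a] ++ w0) = elw (w0 ++ [.a]) := rel_eq (by decide +kernel)

theorem b_w0 : elw ([.b] ++ w0) = elw (w0 ++ [.b]) := rel_eq (by decide +kernel)

theorem c_w0 : elw ([.c] ++ w0) = elw (w0 ++ [.c]) := rel_eq (by decide +kernel)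

theorem xx_cube_0 : pln (td ++ tg ++ td ++ tg ++ td ++ tg) ([]) 0 = true := by decide +kernel
theorem xx_cube_1 : pln (td ++ tg ++ td ++ tg ++ td ++ tg) ([]) 1 = true := by decide +kernel
theorem xx_cube_2 : pln (td ++ tg ++ td ++ tg ++ td ++ tg) ([]) 2 = true := by decide +kernel
theorem xx_cube_3 : pln (td ++ tg ++ td ++ tg ++ td ++ tg) ([]) 3 = true := by decide +kernel
theorem xx_cube_4 : pln (td ++ tg ++ td ++ tg ++ td ++ tg) ([]) 4 = true := by decide +kernel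
theorem xx_cube_5 : pln (td ++ tg ++ td ++ tg ++ td ++ tg) ([]) 5 = true := by decide +kernel
theorem xx_cube_6 : pln (td ++ tg ++ td ++ tg ++ td ++ tg) ([]) 6 = true := by decide +kernel
theorem xx_cube_7 : pln (td ++ tg ++ td ++ tg ++ td ++ tg) ([]) 7 = true := by decide +kernel
theorem xx_cube_8 : pln (td ++ tg ++ td ++ tg ++ td ++ tg) ([]) 8 = true := by decide +kernel
theorem xx_cube_9 : pln (td ++ tg ++ td ++ tg ++ td ++ tg) ([]) 9 = true := by decide +kernel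
theorem xx_cube_10 : pln (td ++ tg ++ td ++ tg ++ td ++ tg) ([]) 10 = true := by decide +kernel
theorem xx_cube_11 : pln (td ++ tg ++ td ++ tg ++ td ++ tg) ([]) 11 = true := by decide +kernel
theorem xx_cube_12 : pln (td ++ tg ++ td ++ tg ++ td ++ tg) ([]) 12 = true := by decide +kernel
theorem xx_cube_13 : pln (td ++ tg ++ td ++ tg ++ td ++ tg) ([]) 13 = true := by decide +kernel
theorem xx_cube_14 : pln (td ++ tg ++ td ++ tg ++ td ++ tg) ([]) 14 = true := by decide +kernel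
theorem xx_cube : elw (td ++ tg ++ td ++ tg ++ td ++ tg) = elw ([]) :=
  eq_of_pln xx_cube_0 xx_cube_1 xx_cube_2 xx_cube_3 xx_cube_4 xx_cube_5 xx_cube_6 xx_cube_7 xx_cube_8 xx_cube_9
    xx_cube_10 xx_cube_11 xx_cube_12 xx_cube_13 xx_cube_14

theorem yy_cube_0 : pln (td ++ th ++ td ++ th ++ td ++ th) ([]) 0 = true := by decide +kernel
theorem yy_cube_1 : pln (td ++ th ++ td ++ th ++ td ++ th) ([]) 1 = true := by decide +kernel
theorem yy_cube_2 : pln (td ++ th ++ td ++ th ++ td ++ th) ([]) 2 = true := by decide +kernel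
theorem yy_cube_3 : pln (td ++ th ++ td ++ th ++ td ++ th) ([]) 3 = true := by decide +kernel
theorem yy_cube_4 : pln (td ++ th ++ td ++ th ++ td ++ th) ([]) 4 = true := by decide +kernel
theorem yy_cube_5 : pln (td ++ th ++ td ++ th ++ td ++ th) ([]) 5 = true := by decide +kernel
theorem yy_cube_6 : pln (td ++ th ++ td ++ th ++ td ++ th) ([]) 6 = true := by decide +kernel
theorem yy_cube_7 : pln (td ++ th ++ td ++ th ++ td ++ th) ([]) 7 = true := by decide +kernel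
theorem yy_cube_8 : pln (td ++ th ++ td ++ th ++ td ++ th) ([]) 8 = true := by decide +kernel
theorem yy_cube_9 : pln (td ++ th ++ td ++ th ++ td ++ th) ([]) 9 = true := by decide +kernel
theorem yy_cube_10 : pln (td ++ th ++ td ++ th ++ td ++ th) ([]) 10 = true := by decide +kernel
theorem yy_cube_11 : pln (td ++ th ++ td ++ th ++ td ++ th) ([]) 11 = true := by decide +kernel
theorem yy_cube_12 : pln (td ++ th ++ td ++ th ++ td ++ th) ([]) 12 = true := by decide +kernel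
theorem yy_cube_13 : pln (td ++ th ++ td ++ th ++ td ++ th) ([]) 13 = true := by decide +kernel
theorem yy_cube_14 : pln (td ++ th ++ td ++ th ++ td ++ th) ([]) 14 = true := by decide +kernel
theorem yy_cube : elw (td ++ th ++ td ++ th ++ td ++ th) = elw ([]) :=
  eq_of_pln yy_cube_0 yy_cube_1 yy_cube_2 yy_cube_3 yy_cube_4 yy_cube_5 yy_cube_6 yy_cube_7 yy_cube_8 yy_cube_9
    yy_cube_10 yy_cube_11 yy_cube_12 yy_cube_13 yy_cube_14

theorem xx_yy_0 : pln (td ++ tg ++ td ++ th) (w0 ++ td ++ th ++ td ++ tg) 0 = true := by decide +kernel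
theorem xx_yy_1 : pln (td ++ tg ++ td ++ th) (w0 ++ td ++ th ++ td ++ tg) 1 = true := by decide +kernel
theorem xx_yy_2 : pln (td ++ tg ++ td ++ th) (w0 ++ td ++ th ++ td ++ tg) 2 = true := by decide +kernel
theorem xx_yy_3 : pln (td ++ tg ++ td ++ th) (w0 ++ td ++ th ++ td ++ tg) 3 = true := by decide +kernel
theorem xx_yy_4 : pln (td ++ tg ++ td ++ th) (w0 ++ td ++ th ++ td ++ tg) 4 = true := by decide +kernel
theorem xx_yy_5 : pln (td ++ tg ++ td ++ th) (w0 ++ td ++ th ++ td ++ tg) 5 = true := by decide +kernel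
theorem xx_yy_6 : pln (td ++ tg ++ td ++ th) (w0 ++ td ++ th ++ td ++ tg) 6 = true := by decide +kernel
theorem xx_yy_7 : pln (td ++ tg ++ td ++ th) (w0 ++ td ++ th ++ td ++ tg) 7 = true := by decide +kernel
theorem xx_yy_8 : pln (td ++ tg ++ td ++ th) (w0 ++ td ++ th ++ td ++ tg) 8 = true := by decide +kernel
theorem xx_yy_9 : pln (td ++ tg ++ td ++ th) (w0 ++ td ++ th ++ td ++ tg) 9 = true := by decide +kernel
theorem xx_yy_10 : pln (td ++ tg ++ td ++ th) (w0 ++ td ++ th ++ td ++ tg) 10 = true := by decide +kernel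
theorem xx_yy_11 : pln (td ++ tg ++ td ++ th) (w0 ++ td ++ th ++ td ++ tg) 11 = true := by decide +kernel
theorem xx_yy_12 : pln (td ++ tg ++ td ++ th) (w0 ++ td ++ th ++ td ++ tg) 12 = true := by decide +kernel
theorem xx_yy_13 : pln (td ++ tg ++ td ++ th) (w0 ++ td ++ th ++ td ++ tg) 13 = true := by decide +kernel
theorem xx_yy_14 : pln (td ++ tg ++ td ++ th) (w0 ++ td ++ th ++ td ++ tg) 14 = true := by decide +kernel
theorem xx_yy : elw (td ++ tg ++ td ++ th) = elw (w0 ++ td ++ th ++ td ++ tg) :=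
  eq_of_pln xx_yy_0 xx_yy_1 xx_yy_2 xx_yy_3 xx_yy_4 xx_yy_5 xx_yy_6 xx_yy_7 xx_yy_8 xx_yy_9 xx_yy_10 xx_yy_11
    xx_yy_12 xx_yy_13 xx_yy_14

end Cfsg.Agent.H935.FiThree
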