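import Cfsg.Agent.H935.FiThree.Chk
import Cfsg.Agent.LThreeFi23.PrimesC
import Cfsg.Agent.Lib.PermNetOrbit

/-!
# `Fi23`: orbits of a subgroup of the normalizer of `w0` on the transpositions, patterns (kernel checks)
-/

set_option autoImplicit false
set_option maxRecDepth 100000
set_option linter.constructorNameAsVariable false
set_option Elab.async false

namespace Cfsg.Agent.H935.FiThree

open Cfsg Cfsg.Agent.Lib.PermNet Cfsg.Agent.Lib.PermNetFix Cfsg.Agent.LThreeFi23
open Cfsg.Spor (Fi23)
open Cfsg.Agent.Fischer.Fi23Hom (rho)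

/-- the element `f e` of order 3 -/
def u2 : List Lt := [.f, .e]

theorem u2_w0 : elw (u2 ++ w0) = elw (w0 ++ u2) := rel_eq (by decide +kernel)

/-! ### Growth of sets of points -/

/-- growth of a set of points along a list of words -/
noncomputable def grow (s : List (List Lt)) : ℕ → ℕ :=
  List.rec (motive := fun _ => ℕ → ℕ) (fun P => P)
    (fun w _ ih P => seq (Nat.lor P (appWord (ntw w) P)) ih) s

theorem grow_cons (w : List Lt) (s : List (List Lt)) (P : ℕ) :
    grow (w :: s) P = grow s (P ||| appWord (ntw w) P) := by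
  show seq (Nat.lor P (appWord (ntw w) P)) (grow s) = _
  rw [seq_eq]
  rfl

/-- the grown set stays in the orbit -/
theorem grow_spec {H : Subgroup Fi23} {x : ℕ} {s : List (List Lt)} (hs : ∀ w ∈ s, elw w ∈ H) {P : ℕ}
    (hP : ∀ p, P.testBit p = true → ∃ h ∈ H, rho h x = p) (p : ℕ) (hp : (grow s P).testBit p = true) :
    ∃ h ∈ H, rho h x = p := by
  induction s generalizing P with
  | nil => exact hP p hp
  | cons w s ih =>
    rw [grow_cons] at hp
    refine ih (fun w hw => hs w (List.mem_cons_of_mem _ hw)) ?_ hp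
    intro q hq
    rw [Nat.testBit_or, Bool.or_eq_true] at hq
    rcases hq with hq | hq
    · exact hP q hq
    · rw [testBit_appWord (ntw_ok w), ← rho_elw] at hq
      obtain ⟨h, hh, he⟩ := hP _ hq
      refine ⟨(elw w)⁻¹ * h, H.mul_mem (H.inv_mem (hs w List.mem_cons_self)) hh, ?_⟩
      rw [map_mul, Equiv.Perm.mul_apply, he, map_inv, Equiv.Perm.inv_eq_iff_eq]

/-- the words of the growth -/
def sF : List (List Lt) :=
    [[.b], [.a], [.c], [.b], pp, [.b], [.c], u2, u1, [.b], [.a], u2, [.b], pp, [.b], [.c], [.b]]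

/-- the words of the growth -/
def s2 : List (List Lt) :=
    [u1, u1, pp, [.b], [.c], u1, u2, [.a], [.b], u1, u2, [.a], pp, [.c], [.b], u1, u2, u1, u2, [.a],
    [.c], pp, u2, [.b], [.c], u1]

/-- the words of the growth -/
def s3 : List (List Lt) :=
    [[.c], u2, [.b], u2, [.a], pp, [.b], [.c], u1, u2, [.a], u1, u2, [.b], [.a], pp, [.c], [.b], u2,
    u1, u2, [.a], [.c], u1, [.b], pp, [.c], u1, [.b]]

/-- the 324 points fixed by `w0` -/
noncomputable def mF : ℕ := grow sF (Nat.pow 2 8003)

/-- the orbit of `z0`, 11664 points -/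
noncomputable def m2 : ℕ := grow s2 (Nat.pow 2 0)

/-- the orbit of `d`, 19683 points -/
noncomputable def m3 : ℕ := grow s3 (Nat.pow 2 8000)

noncomputable def chkOrb : Bool :=
  seqB mF fun A => seqB m2 fun B => seqB m3 fun C => seqB (moved 15 (ntw w0)) fun D =>
    and (Nat.beq (Nat.lor (Nat.lor A B) C) full)
      (and (Nat.beq (Lib.PermNetOrbit.pc 15 (Nat.lor A B)) 11988)
        (and (Nat.beq (Lib.PermNetOrbit.pc 15 (Nat.lor A C)) 20007)
          (and (Nat.beq (Nat.land A D) 0)
            (and (Nat.beq (Lib.PermNetOrbit.pc 15 D) 31347)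
              (allTb A [11589, 8004, 8003, 707, 5694, 1813, 494, 3219, 4823])))))

theorem chk_orb : chkOrb = true := by decide +kernel

theorem chk_uu : Nat.beq (Lib.PermNetOrbit.pc 15 (moved 15 (ntw [.z, .j]))) 31320 = true := by decide +kernel

theorem chk_xC : Nat.beq (Lib.PermNetOrbit.pc 15 (moved 15 (ntw [.a, .b, .h, .i]))) 31536 = true := by
  decide +kernel

/-! ### Transpositions fixed by `w0` and patterns -/

/-- a palindrome -/
def pal (v : List Lt) (l : Lt) : List Lt := v ++ l :: v.reverse

def v707 : List Lt :=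
    [.d, .h, .i, .e, .d, .h, .f, .e, .d]

def v5694 : List Lt :=
    [.d, .e, .c, .d, .h, .i, .d, .e, .b, .c, .d, .h, .f, .e, .d, .c, .b]

def v1813 : List Lt :=
    [.j, .z, .g, .j, .f, .d, .e, .c, .d, .h, .i, .f, .d, .e, .c, .d, .h, .g, .f, .e, .d, .c]

def v494 : List Lt :=
    [.c, .d, .h, .i, .e, .d, .h, .f, .e, .d]

def v3219 : List Lt :=
    [.e, .f, .g, .j, .f, .d, .e, .c, .d, .h, .i, .f, .d, .e, .c, .d, .h, .g, .f, .e, .d, .c]

def v4823 : List Lt :=
    [.g, .j, .z, .f, .g, .j, .e, .f, .d, .e, .c, .d, .h, .i, .d, .e, .b, .c, .d, .h, .g, .f, .e, .d,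
    .c, .b]

theorem pt_707 : Nat.beq (ptw v707 (pt .c)) 707 = true := by decide +kernel
theorem pt_5694 : Nat.beq (ptw v5694 (pt .a)) 5694 = true := by decide +kernel
theorem pt_1813 : Nat.beq (ptw v1813 (pt .b)) 1813 = true := by decide +kernel
theorem pt_494 : Nat.beq (ptw v494 (pt .c)) 494 = true := by decide +kernel
theorem pt_3219 : Nat.beq (ptw v3219 (pt .b)) 3219 = true := by decide +kernel
theorem pt_4823 : Nat.beq (ptw v4823 (pt .a)) 4823 = true := by decide +kernel

def ce_z : List (List Lt × Bool) :=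
  [([.c], false), ([.b], false), ([.a], false), (pal v707 .c, false), (pal v5694 .a, false)]

theorem e_z : pchk ce_z [0, 1, 8006] = true := by decide +kernel

def ce_g : List (List Lt × Bool) :=
  [([.c], false), ([.b], false), ([.a], false), (pal v1813 .b, false)]

theorem e_g : pchk ce_g [3, 4150, 8005] = true := by decide +kernel

def ce_d : List (List Lt × Bool) :=
  [([.b], false), ([.a], false), (pal v494 .c, false), (pal v3219 .b, false)]

theorem e_d : pchk ce_d [4131, 4233, 8000] = true := by decide +kernel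

def ce_e : List (List Lt × Bool) :=
  [([.c], false), ([.b], false), ([.a], false), (pal v707 .c, false), (pal v4823 .a, false)]

theorem e_e : pchk ce_e [6524, 8001, 8002] = true := by decide +kernel

def ce_h : List (List Lt × Bool) :=
  [([.c], false), ([.b], false), ([.a], false), (pal v707 .c, false), (pal v5694 .a, true), (pal v4823 .a, true)]

theorem e_h : pchk ce_h [6537, 7999, 8007] = true := by decide +kernel

/-! ### Points -/

/-- the images of the points of the first list are those of the second -/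
noncomputable def imgs (w : List Lt) (l : List (ℕ × ℕ)) : Bool :=
  List.rec (motive := fun _ => Bool) true (fun p _ ih => and (Nat.beq (ptw w p.1) p.2) ih) l

theorem imgs_spec {w : List Lt} {l : List (ℕ × ℕ)} (h : imgs w l = true) : ∀ p ∈ l, rho (elw w) p.1 = p.2 := by
  induction l with
  | nil => intro p hp; exact absurd hp (by simp)
  | cons q l ih =>
    intro p hp
    have hl' : and (Nat.beq (ptw w q.1) q.2) (imgs w l) = true := h
    rw [Bool.and_eq_true] at hl'
    rcases List.mem_cons.1 hp with rfl | hp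
    · rw [← ptw_eq]
      exact Nat.eq_of_beq_eq_true hl'.1
    · exact ih hl'.2 p hp

theorem i_w0 : imgs w0 [(0, 8006), (8006, 1), (1, 0), (8001, 6524), (8002, 8001), (6524, 8002), (7999, 8007),
    (8007, 6537), (6537, 7999)] = true := by
  decide +kernel

theorem i_z : imgs [.z] [(3, 5268), (4150, 4), (8005, 8005)] = true := by decide +kernel

theorem i_g : imgs [.g] [(8002, 6529), (6524, 5265), (8001, 8001)] = true := by decide +kernel

theorem i_f : imgs [.f] [(4131, 5256), (4233, 3320), (8000, 8000)] = true := by decide +kernel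

theorem i_d : imgs [.d] [(7999, 6522), (6537, 5286), (8007, 8007)] = true := by decide +kernel

end Cfsg.Agent.H935.FiThree
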