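import Cfsg.Agent.H935.FiThree.Chk2

/-!
# `Fi23`: the pointwise stabilizer of the transpositions commuting with `w0`
-/

set_option autoImplicit false
set_option maxRecDepth 100000
set_option linter.constructorNameAsVariable false

namespace Cfsg.Agent.H935.FiThree

open Subgroup Cfsg Cfsg.Agent.Lib.PermNet Cfsg.Agent.Lib.PermNetFix Cfsg.Agent.LThreeFi23
open Cfsg.Spor (Fi23)
open Cfsg.Agent.Fischer.Fi23Hom (rho)

/-- the element `(z j)(f e)(h i)` of `Fi23` -/
def W : Fi23 := elw w0

theorem W_cube : W ^ 3 = 1 := by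
  have h := w0_cube
  rw [elw_append, elw_append, elw_nil] at h
  rw [pow_succ, pow_two]
  exact h

theorem W_inv : W⁻¹ = W * W := by
  rw [inv_eq_iff_mul_eq_one, ← mul_assoc]
  have h := W_cube
  rw [pow_succ, pow_two] at h
  exact h

/-! ### Palindromes -/

theorem T_pal {v : List Lt} {l : Lt} {p : ℕ} (h : Nat.beq (ptw v (pt l)) p = true) : T p = elw (pal v l) := by
  have h1 : rho (elw v) (pt l) = p := by
    rw [← ptw_eq]
    exact Nat.eq_of_beq_eq_true h
  rw [← h1, T_act _ (pt_lt l), T_pt]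
  unfold pal
  rw [elw_append, elw_cons, elw_reverse, mul_assoc]

/-- the nine transpositions used below -/
def nine : List ℕ := [11589, 8004, 8003, 707, 5694, 1813, 494, 3219, 4823]

theorem comm_pal {σ : Fi23} {v : List Lt} {l : Lt} {p : ℕ} (h : Nat.beq (ptw v (pt l)) p = true)
    (hf : rho σ p = p) : σ * elw (pal v l) = elw (pal v l) * σ := by
  have hp : p < 31671 := by
    have h1 : rho (elw v) (pt l) = p := by
      rw [← ptw_eq]
      exact Nat.eq_of_beq_eq_true h
    rw [← h1]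
    exact act_lt _ (pt_lt l)
  rw [← T_pal h]
  exact (fix_iff σ hp).1 hf

theorem comm_let {σ : Fi23} {l : Lt} (hf : rho σ (pt l) = pt l) : σ * elw [l] = elw [l] * σ := by
  rw [elw_cons, elw_nil, mul_one]
  exact (fix_pt_iff σ l).1 hf

structure Fixes (σ : Fi23) : Prop where
  a : rho σ 11589 = 11589
  b : rho σ 8004 = 8004
  c : rho σ 8003 = 8003
  p707 : rho σ 707 = 707
  p5694 : rho σ 5694 = 5694
  p1813 : rho σ 1813 = 1813
  p494 : rho σ 494 = 494
  p3219 : rho σ 3219 = 3219
  p4823 : rho σ 4823 = 4823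

theorem Fixes.act_z {σ : Fi23} (h : Fixes σ) {p : ℕ} (hp : p ∈ [0, 1, 8006]) : rho σ p ∈ [0, 1, 8006] := by
  refine pchk_act e_z ?_ hp
  intro c hc
  simp only [ce_z, List.mem_cons, List.not_mem_nil, or_false] at hc
  rcases hc with rfl | rfl | rfl | rfl | rfl
  · exact comm_let h.c
  · exact comm_let h.b
  · exact comm_let h.a
  · exact comm_pal pt_707 h.p707
  · exact comm_pal pt_5694 h.p5694

theorem Fixes.act_g {σ : Fi23} (h : Fixes σ) {p : ℕ} (hp : p ∈ [3, 4150, 8005]) : rho σ p ∈ [3, 4150, 8005] := by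
  refine pchk_act e_g ?_ hp
  intro c hc
  simp only [ce_g, List.mem_cons, List.not_mem_nil, or_false] at hc
  rcases hc with rfl | rfl | rfl | rfl
  · exact comm_let h.c
  · exact comm_let h.b
  · exact comm_let h.a
  · exact comm_pal pt_1813 h.p1813

theorem Fixes.act_d {σ : Fi23} (h : Fixes σ) {p : ℕ} (hp : p ∈ [4131, 4233, 8000]) :
    rho σ p ∈ [4131, 4233, 8000] := by
  refine pchk_act e_d ?_ hp
  intro c hc
  simp only [ce_d, List.mem_cons, List.not_mem_nil, or_false] at hc
  rcases hc with rfl | rfl | rfl | rfl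
  · exact comm_let h.b
  · exact comm_let h.a
  · exact comm_pal pt_494 h.p494
  · exact comm_pal pt_3219 h.p3219

theorem Fixes.act_e {σ : Fi23} (h : Fixes σ) {p : ℕ} (hp : p ∈ [6524, 8001, 8002]) :
    rho σ p ∈ [6524, 8001, 8002] := by
  refine pchk_act e_e ?_ hp
  intro c hc
  simp only [ce_e, List.mem_cons, List.not_mem_nil, or_false] at hc
  rcases hc with rfl | rfl | rfl | rfl | rfl
  · exact comm_let h.c
  · exact comm_let h.b
  · exact comm_let h.a
  · exact comm_pal pt_707 h.p707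
  · exact comm_pal pt_4823 h.p4823

theorem Fixes.act_h {σ : Fi23} (h : Fixes σ) {p : ℕ} (hp : p ∈ [6537, 7999, 8007]) :
    rho σ p ∈ [6537, 7999, 8007] := by
  refine pchk_act e_h ?_ hp
  intro c hc
  simp only [ce_h, List.mem_cons, List.not_mem_nil, or_false] at hc
  rcases hc with rfl | rfl | rfl | rfl | rfl | rfl
  · exact comm_let h.c
  · exact comm_let h.b
  · exact comm_let h.a
  · exact comm_pal pt_707 h.p707
  · exact comm_pal pt_5694 h.p5694
  · exact comm_pal pt_4823 h.p4823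

/-- a permutation of order 3 preserving a set of three points is a cyclic shift there -/
theorem shift {τ : Equiv.Perm ℕ} (h3 : ∀ q, τ (τ (τ q)) = q) {x y z : ℕ} (hxy : x ≠ y) (hxz : x ≠ z) (hyz : y ≠ z)
    (hx : τ x = x ∨ τ x = y ∨ τ x = z) (hy : τ y = x ∨ τ y = y ∨ τ y = z) (hz : τ z = x ∨ τ z = y ∨ τ z = z) :
    (τ x = x ∧ τ y = y ∧ τ z = z) ∨ (τ x = y ∧ τ y = z ∧ τ z = x) ∨ (τ x = z ∧ τ z = y ∧ τ y = x) := by
  have i1 : τ x ≠ τ y := fun h => hxy (τ.injective h)
  have i2 : τ x ≠ τ z := fun h => hxz (τ.injective h)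
  have i3 : τ y ≠ τ z := fun h => hyz (τ.injective h)
  have c1 := h3 x
  have c2 := h3 y
  have c3 := h3 z
  rcases hx with hx | hx | hx <;> rcases hy with hy | hy | hy <;> rcases hz with hz | hz | hz <;>
    simp_all

end Cfsg.Agent.H935.FiThree
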