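import Cfsg.Agent.H935.FiThree.Fix

/-!
# `Fi23`: an element of order 3 fixing the transpositions commuting with `w0` is a power of `w0`
-/

set_option autoImplicit false
set_option maxRecDepth 100000
set_option linter.constructorNameAsVariable false

namespace Cfsg.Agent.H935.FiThree

open Subgroup Cfsg Cfsg.Agent.Lib.PermNet Cfsg.Agent.Lib.PermNetFix Cfsg.Agent.LThreeFi23
open Cfsg.Spor (Fi23)
open Cfsg.Agent.Fischer.Fi23Hom (rho)

/-- a cyclic shift of three points -/
def Sh (τ : Equiv.Perm ℕ) (x y z : ℕ) : Prop :=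
  (τ x = x ∧ τ y = y ∧ τ z = z) ∨ (τ x = y ∧ τ y = z ∧ τ z = x) ∨ (τ x = z ∧ τ z = y ∧ τ y = x)

theorem Sh.mul {τ σ : Equiv.Perm ℕ} {x y z : ℕ} (h : Sh τ x y z) (h' : Sh σ x y z) : Sh (τ * σ) x y z := by
  unfold Sh at *
  simp only [Equiv.Perm.mul_apply]
  rcases h with ⟨h1, h2, h3⟩ | ⟨h1, h2, h3⟩ | ⟨h1, h2, h3⟩ <;>
    rcases h' with ⟨h4, h5, h6⟩ | ⟨h4, h5, h6⟩ | ⟨h4, h5, h6⟩ <;> simp [*]

theorem W_pts : rho W 0 = 8006 ∧ rho W 8006 = 1 ∧ rho W 1 = 0 ∧ rho W 8001 = 6524 ∧ rho W 8002 = 8001 ∧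
    rho W 6524 = 8002 ∧ rho W 7999 = 8007 ∧ rho W 8007 = 6537 ∧ rho W 6537 = 7999 := by
  have h := imgs_spec i_w0
  refine ⟨h (0, 8006) (by simp), h (8006, 1) (by simp), h (1, 0) (by simp), h (8001, 6524) (by simp),
    h (8002, 8001) (by simp), h (6524, 8002) (by simp), h (7999, 8007) (by simp), h (8007, 6537) (by simp),
    h (6537, 7999) (by simp)⟩

theorem not_com {x : Lt} {q r : ℕ} (h : rho (elw [x]) q = r) (hne : r ≠ q) : ¬ Com (pt x) q := by
  rw [com_pt_iff]
  rw [elw_cons, elw_nil, mul_one] at h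
  rw [h]
  exact hne

theorem com_of {x : Lt} {q : ℕ} (h : rho (elw [x]) q = q) : Com (pt x) q := by
  rw [com_pt_iff]
  rw [elw_cons, elw_nil, mul_one] at h
  exact h

theorem eq_one_of {σ : Fi23} (h : Fixes σ) (h0 : rho σ 0 = 0) (hj : rho σ 8006 = 8006)
    (he : Sh (rho σ) 8001 6524 8002) (hh : Sh (rho σ) 7999 8007 6537) : σ = 1 := by
  -- `g`
  have hg : rho σ 8005 = 8005 := by
    have h1 := h.act_g (p := 8005) (by simp)
    have h2 : Com 0 (rho σ 8005) := (com_fix σ (by norm_num) h0).2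
      (com_of (x := .z) (imgs_spec i_z (8005, 8005) (by simp)))
    simp only [List.mem_cons, List.not_mem_nil, or_false] at h1
    rcases h1 with h1 | h1 | h1
    · rw [h1] at h2
      exact absurd h2 (not_com (x := .z) (imgs_spec i_z (3, 5268) (by simp)) (by norm_num))
    · rw [h1] at h2
      exact absurd h2 (not_com (x := .z) (imgs_spec i_z (4150, 4) (by simp)) (by norm_num))
    · exact h1
  -- `e` and `f`
  have hef : rho σ 8001 = 8001 ∧ rho σ 6524 = 6524 ∧ rho σ 8002 = 8002 := by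
    have h2 : Com 8005 (rho σ 8001) := (com_fix σ (by norm_num) hg).2
      (com_of (x := .g) (imgs_spec i_g (8001, 8001) (by simp)))
    rcases he with h1 | ⟨h1, -, -⟩ | ⟨h1, -, -⟩
    · exact h1
    · rw [h1] at h2
      exact absurd h2 (not_com (x := .g) (imgs_spec i_g (6524, 5265) (by simp)) (by norm_num))
    · rw [h1] at h2
      exact absurd h2 (not_com (x := .g) (imgs_spec i_g (8002, 6529) (by simp)) (by norm_num))
  -- `d`
  have hd : rho σ 8000 = 8000 := by
    have h1 := h.act_d (p := 8000) (by simp)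
    have h2 : Com 8002 (rho σ 8000) := (com_fix σ (by norm_num) hef.2.2).2
      (com_of (x := .f) (imgs_spec i_f (8000, 8000) (by simp)))
    simp only [List.mem_cons, List.not_mem_nil, or_false] at h1
    rcases h1 with h1 | h1 | h1
    · rw [h1] at h2
      exact absurd h2 (not_com (x := .f) (imgs_spec i_f (4131, 5256) (by simp)) (by norm_num))
    · rw [h1] at h2
      exact absurd h2 (not_com (x := .f) (imgs_spec i_f (4233, 3320) (by simp)) (by norm_num))
    · exact h1
  -- `h` and `i`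
  have hhi : rho σ 7999 = 7999 ∧ rho σ 8007 = 8007 ∧ rho σ 6537 = 6537 := by
    have h2 : Com 8000 (rho σ 8007) := (com_fix σ (by norm_num) hd).2
      (com_of (x := .d) (imgs_spec i_d (8007, 8007) (by simp)))
    rcases hh with h1 | ⟨-, h1, -⟩ | ⟨-, -, h1⟩
    · exact h1
    · rw [h1] at h2
      exact absurd h2 (not_com (x := .d) (imgs_spec i_d (6537, 5286) (by simp)) (by norm_num))
    · rw [h1] at h2
      exact absurd h2 (not_com (x := .d) (imgs_spec i_d (7999, 6522) (by simp)) (by norm_num))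
  apply eq_one_of_comm
  intro x
  apply (fix_pt_iff σ x).1
  cases x
  · exact h.a
  · exact h.b
  · exact h.c
  · exact hd
  · exact hef.1
  · exact hef.2.2
  · exact hg
  · exact hhi.1
  · exact hhi.2.1
  · exact hj
  · exact h0

theorem Fixes.mul {σ τ : Fi23} (h : Fixes σ) (h' : Fixes τ) : Fixes (σ * τ) := by
  constructor <;> rw [map_mul, Equiv.Perm.mul_apply]
  · rw [h'.a, h.a]
  · rw [h'.b, h.b]
  · rw [h'.c, h.c]
  · rw [h'.p707, h.p707]
  · rw [h'.p5694, h.p5694]
  · rw [h'.p1813, h.p1813]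
  · rw [h'.p494, h.p494]
  · rw [h'.p3219, h.p3219]
  · rw [h'.p4823, h.p4823]

theorem Sh_W_e : Sh (rho W) 8001 6524 8002 := by
  obtain ⟨-, -, -, h1, h2, h3, -⟩ := W_pts
  exact Or.inr (Or.inl ⟨h1, h3, h2⟩)

theorem Sh_W_h : Sh (rho W) 7999 8007 6537 := by
  obtain ⟨-, -, -, -, -, -, h1, h2, h3⟩ := W_pts
  exact Or.inr (Or.inl ⟨h1, h2, h3⟩)

/-- **an element of order 3 fixing the transpositions commuting with `w0`** -/
theorem cases_of_fixes (hW : Fixes W) {σ : Fi23} (h3 : σ ^ 3 = 1) (h : Fixes σ) : σ = 1 ∨ σ = W ∨ σ = W⁻¹ := by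
  have h3' : ∀ q, rho σ (rho σ (rho σ q)) = q := by
    intro q
    rw [← Equiv.Perm.mul_apply, ← Equiv.Perm.mul_apply, ← map_mul, ← map_mul]
    have : σ * σ * σ = 1 := by rw [← h3, pow_succ, pow_two]
    rw [this, map_one]
    rfl
  obtain ⟨w1, w2, w3, -⟩ := W_pts
  have s0 : Sh (rho σ) 0 8006 1 := by
    have a1 := h.act_z (p := 0) (by simp)
    have a2 := h.act_z (p := 8006) (by simp)
    have a3 := h.act_z (p := 1) (by simp)
    simp only [List.mem_cons, List.not_mem_nil, or_false] at a1 a2 a3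
    exact shift h3' (by norm_num) (by norm_num) (by norm_num) (Or.imp_right Or.symm a1) (Or.imp_right Or.symm a2)
      (Or.imp_right Or.symm a3)
  have se : Sh (rho σ) 8001 6524 8002 := by
    have a1 := h.act_e (p := 8001) (by simp)
    have a2 := h.act_e (p := 6524) (by simp)
    have a3 := h.act_e (p := 8002) (by simp)
    simp only [List.mem_cons, List.not_mem_nil, or_false] at a1 a2 a3
    exact shift h3' (by norm_num) (by norm_num) (by norm_num) (or_left_comm.1 a1) (or_left_comm.1 a2)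
      (or_left_comm.1 a3)
  have sh : Sh (rho σ) 7999 8007 6537 := by
    have a1 := h.act_h (p := 7999) (by simp)
    have a2 := h.act_h (p := 8007) (by simp)
    have a3 := h.act_h (p := 6537) (by simp)
    simp only [List.mem_cons, List.not_mem_nil, or_false] at a1 a2 a3
    exact shift h3' (by norm_num) (by norm_num) (by norm_num) (Or.rotate a1) (Or.rotate a2) (Or.rotate a3)
  rcases s0 with ⟨t1, t2, t3⟩ | ⟨t1, t2, t3⟩ | ⟨t1, t2, t3⟩
  · exact Or.inl (eq_one_of h t1 t2 se sh)
  · -- `σ` acts like `W`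
    right; left
    have h1 : W * W * σ = 1 := by
      apply eq_one_of ((hW.mul hW).mul h)
      · rw [map_mul, map_mul, Equiv.Perm.mul_apply, Equiv.Perm.mul_apply, t1, w2, w3]
      · rw [map_mul, map_mul, Equiv.Perm.mul_apply, Equiv.Perm.mul_apply, t2, w3, w1]
      · rw [map_mul, map_mul]
        exact (Sh_W_e.mul Sh_W_e).mul se
      · rw [map_mul, map_mul]
        exact (Sh_W_h.mul Sh_W_h).mul sh
    rw [← W_inv] at h1
    exact (inv_mul_eq_one.1 h1).symm
  · right; right
    have h1 : W * σ = 1 := by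
      apply eq_one_of (hW.mul h)
      · rw [map_mul, Equiv.Perm.mul_apply, t1, w3]
      · rw [map_mul, Equiv.Perm.mul_apply, t3, w1]
      · rw [map_mul]
        exact Sh_W_e.mul se
      · rw [map_mul]
        exact Sh_W_h.mul sh
    exact eq_inv_of_mul_eq_one_right h1

end Cfsg.Agent.H935.FiThree
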